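import Cfsg.Agent.H45.Uni.Deg

/-!
# S3442, type `B_m`: polynomiality of the leading minors (helper258)

* `pol_mnr_siegel`, `pol_mnr_dl`, `exp_mnr`.
-/

set_option autoImplicit false

namespace Cfsg.Agent.H258.BS

open QuadraticMap Cfsg.Agent.LieClassical.OrthCore Cfsg.Agent.LieClassical.OmegaReindex
  Cfsg.Agent.LieClassical.OrthFinite Polynomial Cfsg.Agent.H45.Uni

variable {m : ℕ} {k : Type*} [Field k]

theorem pol_mnr {Θ : Type*} {e : Θ → k} {d : ℕ} (j : Fin m) (γ : Θ → ((Ix m → k) ≃ₗ[k] (Ix m → k)))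
    (h : ∀ a b : Fin m, PolLE e d fun θ => γ θ (ve b) (.inr (.inl a))) :
    PolLE e ((j.1 + 1) * d) fun θ => mnr j (γ θ) := by
  have h1 := PolLE.det (A := fun θ => mtx j (γ θ)) (e := e) (d := d) (fun a b => h _ _)
  rw [Fintype.card_fin] at h1
  exact h1

/-- the leading minors on a root subgroup -/
theorem pol_mnr_siegel {u w : Ix m → k} (hu : quadOdd m k u = 0) (_hw : polar (quadOdd m k) u w = 0)
    (hs : ∀ s : k, polar (quadOdd m k) u (s • w) = 0) (j : Fin m) (g h : (Ix m → k) ≃ₗ[k] (Ix m → k)) :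
    ∃ P : k[X], P.natDegree ≤ 2 * m ∧
      ∀ s, mnr j (g * siegel (quadOdd m k) u (s • w) hu (hs s) * h) = P.eval s := by
  obtain ⟨P, h1, h2⟩ := pol_mnr (e := (id : k → k)) (d := 2) j
    (fun s => g * siegel (quadOdd m k) u (s • w) hu (hs s) * h)
    (fun a b => pol_siegel hu hs (cf g (.inr (.inl a))) (h (ve b)))
  have := j.2
  exact ⟨P, h1.trans (by omega), h2⟩

theorem dlv_sq (s : kˣ) : (dlv s * dlv s : Fin m → kˣ) = dlv (s * s) := (dlv_mul s s).symm

/-- the leading minors on the square of the cocharacter `δ` -/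
theorem pol_mnr_dl (j : Fin m) (g h : (Ix m → k) ≃ₗ[k] (Ix m → k)) :
    ∃ P : k[X], P.natDegree ≤ 4 * m * m ∧
      ∀ s : kˣ, (s : k) ^ (2 * m * m) * mnr j (g * tor (dlv s * dlv s) * h) = P.eval (s : k) := by
  obtain ⟨P, h1, h2⟩ := pol_δ (Pi.single j 1) g h
  have hm := j.2
  have e1 : ∑ j' : Fin m, m * ((j'.1 + 1) * (Pi.single j 1 : Fin m → ℕ) j') = m * (j.1 + 1) := by
    rw [Finset.sum_eq_single j]
    · rw [Pi.single_eq_same, mul_one]
    · intro b _ hb
      rw [Pi.single_eq_of_ne hb, mul_zero, mul_zero]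
    · intro h; exact absurd (Finset.mem_univ _) h
  have e2 : ∑ j' : Fin m, (Pi.single j 1 : Fin m → ℕ) j' * ((j'.1 + 1) * (2 * m)) = (j.1 + 1) * (2 * m) := by
    rw [Finset.sum_eq_single j]
    · rw [Pi.single_eq_same, one_mul]
    · intro b _ hb
      rw [Pi.single_eq_of_ne hb, zero_mul]
    · intro h; exact absurd (Finset.mem_univ _) h
  have e3 : ∀ x : (Ix m → k) ≃ₗ[k] (Ix m → k), cc (Pi.single j 1) x = mnr j x := by
    intro x
    unfold cc
    rw [Finset.prod_eq_single j]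
    · rw [Pi.single_eq_same, pow_one]
    · intro b _ hb
      rw [Pi.single_eq_of_ne hb, pow_zero]
    · intro h; exact absurd (Finset.mem_univ _) h
  rw [e2] at h1
  simp only [e1, e3] at h2
  have hle : 2 * (m * (j.1 + 1)) ≤ 2 * m * m := by
    rw [mul_assoc]
    exact Nat.mul_le_mul_left _ (Nat.mul_le_mul_left _ hm)
  refine ⟨Polynomial.X ^ (2 * m * m - 2 * (m * (j.1 + 1))) * P.comp (Polynomial.X ^ 2), ?_, fun s => ?_⟩
  · refine natDegree_mul_le.trans ?_
    rw [natDegree_X_pow, natDegree_comp, natDegree_X_pow]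
    have h3 : (j.1 + 1) * (2 * m) = 2 * (m * (j.1 + 1)) := by ring
    rw [h3] at h1
    have h4 : 4 * m * m = 2 * m * m + 2 * m * m := by ring
    omega
  · rw [eval_mul, eval_comp, eval_pow, eval_pow, eval_X, dlv_sq]
    have h3 := h2 (s * s)
    rw [Units.val_mul, ← pow_two] at h3
    rw [← h3, ← pow_mul]
    have h4 : (s : k) ^ (2 * m * m) = (s : k) ^ (2 * m * m - 2 * (m * (j.1 + 1))) * (s : k) ^ (2 * (m * (j.1 + 1))) := by
      rw [← pow_add]
      congr 1
      omega
    rw [h4, mul_assoc]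

/-! ### exponential sums on the torus -/

/-- the characters of the torus as functions -/
def ch (k : Type*) [Field k] {m : ℕ} (μ : Fin m → ℤ) : (Fin m → kˣ) → k := fun c => ((∏ i, c i ^ μ i : kˣ) : k)

theorem ch_mul (μ ν : Fin m → ℤ) : ch k μ * ch k ν = ch k (μ + ν) := by
  funext c
  show ((∏ i, c i ^ μ i : kˣ) : k) * ((∏ i, c i ^ ν i : kˣ) : k) = ((∏ i, c i ^ (μ i + ν i) : kˣ) : k)
  rw [← Units.val_mul, ← Finset.prod_mul_distrib]
  congr 1
  exact Finset.prod_congr rfl fun i _ => (zpow_add _ _ _).symm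

theorem ch_zero : ch k (0 : Fin m → ℤ) = 1 := by
  funext c
  show ((∏ i, c i ^ (0 : ℤ) : kˣ) : k) = 1
  simp

/-- exponential sums form a subalgebra -/
def expA (m : ℕ) (k : Type*) [Field k] : Subalgebra k ((Fin m → kˣ) → k) :=
  Submodule.toSubalgebra (Submodule.span k (Set.range fun μ : Fin m → ℤ => ch k μ))
    (Submodule.subset_span ⟨0, ch_zero⟩)
    (by
      intro x y hx hy
      have h := Submodule.mul_mem_mul hx hy
      rw [Submodule.span_mul_span] at h
      refine Submodule.span_mono ?_ h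
      rintro _ ⟨_, ⟨μ, rfl⟩, _, ⟨ν, rfl⟩, rfl⟩
      exact ⟨μ + ν, (ch_mul μ ν).symm⟩)

theorem mem_expA {f : (Fin m → kˣ) → k} :
    f ∈ expA m k ↔ f ∈ Submodule.span k (Set.range fun μ : Fin m → ℤ => ch k μ) := Iff.rfl

theorem ch_mem (μ : Fin m → ℤ) : ch k μ ∈ expA m k := Submodule.subset_span ⟨μ, rfl⟩

theorem torVec_mem (l : Ix m) : (fun c : Fin m → kˣ => (torVec (c * c) l : k)) ∈ expA m k := by
  rcases l with l | l | l
  · have h : (fun c : Fin m → kˣ => (torVec (c * c) (Sum.inl l : Ix m) : k)) = 1 := by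
      funext c
      show ((1 : kˣ) : k) = 1
      rw [Units.val_one]
    rw [h]
    exact one_mem _
  · have h : (fun c : Fin m → kˣ => (torVec (c * c) (Sum.inr (Sum.inl l) : Ix m) : k)) =
        ch k (Pi.single l 2) := by
      funext c
      show ((c l * c l : kˣ) : k) = ((∏ i, c i ^ (Pi.single l (2 : ℤ) : Fin m → ℤ) i : kˣ) : k)
      congr 1
      rw [Finset.prod_eq_single l]
      · rw [Pi.single_eq_same, zpow_two]
      · intro b _ hb
        rw [Pi.single_eq_of_ne hb, zpow_zero]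
      · intro h; exact absurd (Finset.mem_univ _) h
    rw [h]
    exact ch_mem _
  · have h : (fun c : Fin m → kˣ => (torVec (c * c) (Sum.inr (Sum.inr l) : Ix m) : k)) =
        ch k (Pi.single l (-2)) := by
      funext c
      show (((c l * c l)⁻¹ : kˣ) : k) = ((∏ i, c i ^ (Pi.single l (-2 : ℤ) : Fin m → ℤ) i : kˣ) : k)
      congr 1
      rw [Finset.prod_eq_single l]
      · rw [Pi.single_eq_same, zpow_neg, zpow_two]
      · intro b _ hb
        rw [Pi.single_eq_of_ne hb, zpow_zero]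
      · intro h; exact absurd (Finset.mem_univ _) h
    rw [h]
    exact ch_mem _

theorem entry_mem (g h : (Ix m → k) ≃ₗ[k] (Ix m → k)) (v : Ix m → k) (a' : Ix m) :
    (fun c : Fin m → kˣ => (g * tor (c * c) * h) v a') ∈ expA m k := by
  have h2 : (fun c : Fin m → kˣ => (g * tor (c * c) * h) v a') =
      ∑ l : Ix m, (h v l * cf g a' (Pi.single l 1)) • (fun c : Fin m → kˣ => (torVec (c * c) l : k)) := by
    funext c
    show g (tor (c * c) (h v)) a' = _
    have h3 : tor (c * c) (h v) = ∑ l : Ix m, ((torVec (c * c) l : k) * h v l) • (Pi.single l 1 : Ix m → k) := by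
      funext l
      rw [tor_apply, Finset.sum_apply]
      simp [Pi.single_apply]
    rw [h3, map_sum, Finset.sum_apply, Finset.sum_apply]
    refine Finset.sum_congr rfl fun l _ => ?_
    rw [map_smul, Pi.smul_apply, Pi.smul_apply, smul_eq_mul, smul_eq_mul, cf_apply]
    ring
  rw [h2]
  exact sum_mem fun l _ => Subalgebra.smul_mem _ (torVec_mem l) _

/-- the leading minors are exponential sums on the torus -/
theorem exp_mnr (j : Fin m) (g h : (Ix m → k) ≃ₗ[k] (Ix m → k)) :
    (fun c : Fin m → kˣ => mnr j (g * tor (c * c) * h)) ∈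
      Submodule.span k (Set.range fun μ : Fin m → ℤ => fun c : Fin m → kˣ => ((∏ i, c i ^ μ i : kˣ) : k)) := by
  show _ ∈ expA m k
  have h1 : (fun c : Fin m → kˣ => mnr j (g * tor (c * c) * h)) =
      ∑ σ : Equiv.Perm (Fin (j.1 + 1)), ((Equiv.Perm.sign σ : ℤ) : k) •
        ∏ i, (fun c : Fin m → kˣ => mtx j (g * tor (c * c) * h) (σ i) i) := by
    funext c
    show mnr j _ = _
    rw [mnr_eq, Matrix.det_apply, Finset.sum_apply]
    refine Finset.sum_congr rfl fun σ _ => ?_
    rw [Pi.smul_apply, Finset.prod_apply, Units.smul_def, zsmul_eq_mul, smul_eq_mul]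
  rw [h1]
  exact sum_mem fun σ _ => Subalgebra.smul_mem _ (prod_mem fun i _ => entry_mem g h _ _) _

end Cfsg.Agent.H258.BS
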